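import Cfsg.Agent.CosetCert.Fi23Collapse.Defs

/-! Generated: kernel checks. -/

set_option Elab.async false

namespace Cfsg.Agent.CosetCert.Fi23Collapse

theorem log_okAt0 : allFrom data.checkLog 0 1757 = true := by decide +kernel

end Cfsg.Agent.CosetCert.Fi23Collapse
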