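import Cfsg.Agent.CosetCert.Pack

/-! Generated: the table. -/

set_option Elab.async false

namespace Cfsg.Agent.CosetCert.Fi23Collapse

def edgeStore : Store := (.leaf 0xdb9000000000db7000000000db5000000000db3000000000db1000000000daf000000000dad000000000dab000000000da9000000000da700000)

end Cfsg.Agent.CosetCert.Fi23Collapse
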