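import Cfsg.Agent.CosetCert.Pack

/-! Generated: the tree. -/

set_option Elab.async false

namespace Cfsg.Agent.CosetCert.Fi23Collapse

def treeStore : Store := (.leaf 0x0)

end Cfsg.Agent.CosetCert.Fi23Collapse
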